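-- Team project CHO (S1082/S1083), package [NORM-B2] (helper62).
import Mathlib
import Cfsg.Agent.Lib.Helper99.CHO.Defs

set_option autoImplicit false
open scoped MatrixGroups
open Matrix

namespace Cfsg.Agent.Lib.Helper62.CHO

open Cfsg.Agent.Lib.Helper99.CHO

universe u

section
variable {K : Type u} [Field K]

/-- the character of the diagonal torus on the root `r` of type B2. -/
def chiB2 (δ : Unit ⊕ (Fin 2 ⊕ Fin 2) → K) (r : ℕ) : K :=
  match r with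
  | 0 => δ (.inr (.inr 0)) * δ (.inr (.inr 1))
  | 1 => δ (.inl ()) * δ (.inr (.inr 0))
  | 2 => δ (.inl ()) * δ (.inr (.inr 1))
  | 3 => δ (.inr (.inl 1)) * δ (.inr (.inr 0))
  | 4 => δ (.inr (.inl 0)) * δ (.inr (.inr 1))
  | 5 => δ (.inl ()) * δ (.inr (.inl 1))
  | 6 => δ (.inl ()) * δ (.inr (.inl 0))
  | 7 => δ (.inr (.inl 0)) * δ (.inr (.inl 1))
  | _ => 0

set_option maxHeartbeats 8000000 in
/-- a diagonal isometry conjugates `E_r(t)` to `E_r(χ_r t)`. -/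
theorem normB2_mat (δ : Unit ⊕ (Fin 2 ⊕ Fin 2) → K) (h0 : δ (.inl ()) * δ (.inl ()) = 1)
    (h1 : δ (.inr (.inl 0)) * δ (.inr (.inr 0)) = 1)
    (h2 : δ (.inr (.inl 1)) * δ (.inr (.inr 1)) = 1)
    (r : ℕ) (hr : r < 8) (t : K) :
    Matrix.diagonal δ * EB2mat K r t = EB2mat K r (chiB2 δ r * t) * Matrix.diagonal δ := by
  ext i j
  rw [Matrix.diagonal_mul, Matrix.mul_diagonal]
  interval_cases r <;>
  rcases i with i | i | i <;> rcases j with j | j | j <;>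
    (try fin_cases i) <;> (try fin_cases j) <;>
    simp [EB2mat, MB2, NB2, tab3, mListB2, nListB2, ix5, chiB2] <;> grind

theorem coe_EB2_62 (hU : PkgUnitB2.{u}) (r : Fin Cfsg.Lie.chevB2.nroots) (t : K) :
    ((EB2 K r t : GL (Unit ⊕ (Fin 2 ⊕ Fin 2)) K) :
      Matrix (Unit ⊕ (Fin 2 ⊕ Fin 2)) (Unit ⊕ (Fin 2 ⊕ Fin 2)) K) = EB2mat K r.val t := by
  have h : IsUnit (EB2mat K r.val t) := hU K r.val t r.isLt
  unfold EB2
  rw [dif_pos h]
  rfl

end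

/-- **[NORM-B2]** -/
theorem pkgNormB2_of (hU : PkgUnitB2.{u}) : PkgNormB2.{u} := by
  intro K _ d hd r t
  obtain ⟨hiso, hdiag⟩ := hd
  have hDd : (d : Matrix (Unit ⊕ (Fin 2 ⊕ Fin 2)) (Unit ⊕ (Fin 2 ⊕ Fin 2)) K) =
      Matrix.diagonal (fun i => (d : Matrix (Unit ⊕ (Fin 2 ⊕ Fin 2)) (Unit ⊕ (Fin 2 ⊕ Fin 2)) K) i i) := by
    ext i j
    by_cases h : i = j
    · subst h
      simp
    · rw [Matrix.diagonal_apply_ne _ h]
      exact hdiag i j h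
  have hQ : ∀ u : Unit ⊕ (Fin 2 ⊕ Fin 2) → K,
      Cfsg.quadFormOdd 2 K ((d : Matrix (Unit ⊕ (Fin 2 ⊕ Fin 2)) (Unit ⊕ (Fin 2 ⊕ Fin 2)) K) *ᵥ u) =
        Cfsg.quadFormOdd 2 K u := fun u => hiso u u
  rw [hDd] at hQ
  generalize (fun i => (d : Matrix (Unit ⊕ (Fin 2 ⊕ Fin 2)) (Unit ⊕ (Fin 2 ⊕ Fin 2)) K) i i) = δ
    at hDd hQ
  have h0 : δ (.inl ()) * δ (.inl ()) = 1 := by
    have := hQ (Pi.single (.inl ()) 1)
    simpa [Cfsg.quadFormOdd, Matrix.mulVec_diagonal, Fin.sum_univ_two, pow_two] using this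
  have h1 : δ (.inr (.inl 0)) * δ (.inr (.inr 0)) = 1 := by
    have := hQ (Pi.single (.inr (.inl 0)) 1 + Pi.single (.inr (.inr 0)) 1)
    simpa [Cfsg.quadFormOdd, Matrix.mulVec_diagonal, Fin.sum_univ_two, pow_two] using this
  have h2 : δ (.inr (.inl 1)) * δ (.inr (.inr 1)) = 1 := by
    have := hQ (Pi.single (.inr (.inl 1)) 1 + Pi.single (.inr (.inr 1)) 1)
    simpa [Cfsg.quadFormOdd, Matrix.mulVec_diagonal, Fin.sum_univ_two, pow_two] using this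
  have key : d * EB2 K r t = EB2 K r (chiB2 δ r.val * t) * d := by
    apply Units.ext
    rw [Units.val_mul, Units.val_mul, coe_EB2_62 hU, coe_EB2_62 hU, hDd]
    exact normB2_mat δ h0 h1 h2 r.val r.isLt t
  have e : d * EB2 K r t * d⁻¹ = EB2 K r (chiB2 δ r.val * t) := by
    rw [key, mul_inv_cancel_right]
  rw [e]
  exact Subgroup.subset_closure ⟨(r, chiB2 δ r.val * t), rfl⟩

end Cfsg.Agent.Lib.Helper62.CHO
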